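import Mathlib
import Groth.Agent.Lib.helper11.ConstrTop

/-!
# Subfields of finitely generated domains with a retraction (helper24)
-/

set_option autoImplicit false
universe u
open Polynomial Topology

namespace Groth.Agent.Lib.Helper24.GrpdDim

/-- For `g ≠ 0` over a field there is `m > 0` with `X ^ m - 1` separable of degree larger than that
of `g`. -/
theorem exists_separable_pow (k : Type*) [Field k] (N : ℕ) :
    ∃ m : ℕ, N < m ∧ ((X : k[X]) ^ m - 1).Separable := by
  obtain ⟨p, hp⟩ := CharP.exists k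
  rcases CharP.char_is_prime_or_zero k p with hpp | hp0
  · refine ⟨p * (N + 1) + 1, ?_, ?_⟩
    · have : 1 ≤ p := hpp.one_lt.le
      nlinarith
    · rw [X_pow_sub_one_separable_iff]
      push_cast
      rw [CharP.cast_eq_zero k p]
      simp
  · subst hp0
    haveI : CharZero k := CharP.charP_to_charZero k
    refine ⟨N + 1, Nat.lt_succ_self N, ?_⟩
    rw [X_pow_sub_one_separable_iff]
    exact_mod_cast Nat.succ_ne_zero N

/-- An element `y` of a finitely generated domain over a field, all of whose `y ^ m - 1` are zero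
or units, is algebraic. -/
theorem isAlgebraic_of_pow_sub_one_isUnit {k D : Type*} [Field k] [CommRing D] [IsDomain D]
    [Algebra k D] [Algebra.FiniteType k D] (y : D)
    (hy : ∀ m : ℕ, 0 < m → y ^ m - 1 = 0 ∨ IsUnit (y ^ m - 1)) : IsAlgebraic k y := by
  by_contra htr
  have hinj : Function.Injective (aeval (R := k) y) := transcendental_iff_injective.mp htr
  letI : Algebra k[X] D := (aeval (R := k) y).toRingHom.toAlgebra
  have halg : ∀ q : k[X], algebraMap k[X] D q = aeval y q := fun _ => rfl
  haveI : IsScalarTower k k[X] D := IsScalarTower.of_algebraMap_eq (fun r => by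
    rw [halg, Polynomial.algebraMap_apply, Algebra.algebraMap_self_apply, aeval_C])
  haveI : Algebra.FiniteType k[X] D := Algebra.FiniteType.of_restrictScalars_finiteType k k[X] D
  haveI : Algebra.FinitePresentation k[X] D := Algebra.FinitePresentation.of_finiteType.mp ‹_›
  have hfp : (algebraMap k[X] D).FinitePresentation := ‹Algebra.FinitePresentation k[X] D›
  have hcon : IsConstructible (Set.range (PrimeSpectrum.comap (algebraMap k[X] D))) :=
    PrimeSpectrum.isConstructible_range_comap hfp
  -- the generic point is in the image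
  have hbot : (⊥ : PrimeSpectrum k[X]) ∈ Set.range (PrimeSpectrum.comap (algebraMap k[X] D)) := by
    refine ⟨⊥, ?_⟩
    ext q
    simp only [PrimeSpectrum.comap_asIdeal, Ideal.mem_comap, PrimeSpectrum.asIdeal_bot,
      Ideal.mem_bot]
    rw [halg]
    exact ⟨fun h => hinj (by rw [h, map_zero]), fun h => by rw [h, map_zero]⟩
  have hclos : closure ({(⊥ : PrimeSpectrum k[X])} : Set (PrimeSpectrum k[X])) = Set.univ := by
    rw [PrimeSpectrum.closure_singleton]
    simp
  have hirr : IsIrreducible (Set.univ : Set (PrimeSpectrum k[X])) :=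
    IrreducibleSpace.isIrreducible_univ _
  have hd : (Set.univ : Set (PrimeSpectrum k[X])) ⊆
      closure (Set.range (PrimeSpectrum.comap (algebraMap k[X] D)) ∩ Set.univ) := by
    intro x _
    have hx : x ∈ closure ({(⊥ : PrimeSpectrum k[X])} : Set (PrimeSpectrum k[X])) := by
      rw [hclos]; trivial
    have hsub : ({(⊥ : PrimeSpectrum k[X])} : Set (PrimeSpectrum k[X])) ⊆
        Set.range (PrimeSpectrum.comap (algebraMap k[X] D)) ∩ Set.univ :=
      Set.singleton_subset_iff.2 ⟨hbot, trivial⟩
    exact closure_mono hsub hx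
  obtain ⟨U₀, hU₀, hne, hU₀E⟩ :=
    Groth.Agent.Lib.helper11.ConstrTop.exists_open_of_dense hcon hirr hd
  have hgen : IsGenericPoint (⊥ : PrimeSpectrum k[X]) (Set.univ : Set (PrimeSpectrum k[X])) :=
    hclos
  have hbotU : (⊥ : PrimeSpectrum k[X]) ∈ U₀ :=
    Groth.Agent.Lib.helper11.ConstrTop.genericPoint_mem_of_inter_nonempty hgen hU₀ hne
  obtain ⟨_, ⟨g, rfl⟩, hbg, hgU⟩ :=
    PrimeSpectrum.isTopologicalBasis_basic_opens.exists_subset_of_mem_open hbotU hU₀
  have hg0 : g ≠ 0 := by
    intro h0
    rw [h0] at hbg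
    simp at hbg
  obtain ⟨m, hm, hsep⟩ := exists_separable_pow k g.natDegree
  have hmpos : 0 < m := lt_of_le_of_lt (Nat.zero_le _) hm
  set q : k[X] := X ^ m - 1 with hq
  have hqdeg : q.natDegree = m := by
    rw [hq, show (1 : k[X]) = C 1 by simp, natDegree_X_pow_sub_C]
  have hndvd : ¬ q ∣ g := by
    intro hdvd
    have := natDegree_le_of_dvd hdvd hg0
    omega
  have hrad : (Ideal.span ({q} : Set k[X])).IsRadical :=
    isRadical_iff_span_singleton.mp hsep.squarefree.isRadical
  have hnot : ¬ (PrimeSpectrum.zeroLocus ((Ideal.span ({q} : Set k[X]) : Ideal k[X]) : Set k[X]) ⊆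
      PrimeSpectrum.zeroLocus ((Ideal.span ({g} : Set k[X]) : Ideal k[X]) : Set k[X])) := by
    rw [PrimeSpectrum.zeroLocus_subset_zeroLocus_iff, hrad.radical, Ideal.span_singleton_le_iff_mem,
      Ideal.mem_span_singleton]
    exact hndvd
  rw [Set.not_subset] at hnot
  obtain ⟨P, hPq, hPg⟩ := hnot
  have hqP : q ∈ P.asIdeal := by
    rw [PrimeSpectrum.mem_zeroLocus] at hPq
    exact hPq (Ideal.subset_span rfl)
  have hgP : g ∉ P.asIdeal := by
    intro hgP
    apply hPg
    rw [PrimeSpectrum.mem_zeroLocus, SetLike.coe_subset_coe, Ideal.span_singleton_le_iff_mem]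
    exact hgP
  have hPU : P ∈ U₀ := hgU (by
    show P ∈ (PrimeSpectrum.basicOpen g : Set _)
    rw [SetLike.mem_coe, PrimeSpectrum.mem_basicOpen]
    exact hgP)
  obtain ⟨Q, hQ⟩ := hU₀E ⟨hPU, trivial⟩
  have hqQ : aeval y q ∈ Q.asIdeal := by
    have : q ∈ (PrimeSpectrum.comap (algebraMap k[X] D) Q).asIdeal := by rw [hQ]; exact hqP
    exact this
  have hqy : aeval y q = y ^ m - 1 := by simp [hq]
  rw [hqy] at hqQ
  rcases hy m hmpos with h0 | hu
  · have : aeval y q = 0 := by rw [hqy, h0]
    have hq0 : q = 0 := hinj (by rw [this, map_zero])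
    rw [hq0] at hqdeg
    simp at hqdeg
    omega
  · exact Q.isPrime.ne_top (Ideal.eq_top_of_isUnit_mem _ hqQ hu)

/-- Two ring homomorphisms from a field to a domain of finite type over it (through the first),
with a common retraction, coincide. -/
theorem eq_of_retraction {k D : Type*} [Field k] [CommRing D] [IsDomain D] (σ τ : k →+* D)
    (ε : D →+* k) (hσ : ∀ a, ε (σ a) = a) (hτ : ∀ a, ε (τ a) = a) (hft : σ.FiniteType) :
    σ = τ := by
  letI : Algebra k D := σ.toAlgebra
  haveI : Algebra.FiniteType k D := hft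
  ext ℓ
  set y : D := τ ℓ with hy
  have hunit : ∀ m : ℕ, 0 < m → y ^ m - 1 = 0 ∨ IsUnit (y ^ m - 1) := by
    intro m _
    have h1 : y ^ m - 1 = τ (ℓ ^ m - 1) := by rw [hy, map_sub, map_pow, map_one]
    by_cases h0 : ℓ ^ m - 1 = 0
    · left; rw [h1, h0, map_zero]
    · right; rw [h1]; exact (IsUnit.mk0 _ h0).map τ
  have halg : IsAlgebraic k y := isAlgebraic_of_pow_sub_one_isUnit y hunit
  have hint : IsIntegral k y := halg.isIntegral
  let εA : D →ₐ[k] k := { ε with commutes' := fun a => hσ a }
  have hεy : εA y = ℓ := hτ ℓ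
  have hroot : (minpoly k y).IsRoot ℓ := by
    have h1 : aeval (εA y) (minpoly k y) = εA (aeval y (minpoly k y)) :=
      Polynomial.aeval_algHom_apply εA y (minpoly k y)
    rw [minpoly.aeval, map_zero, hεy] at h1
    rw [IsRoot.def, ← Polynomial.coe_aeval_eq_eval]
    exact h1
  have hdeg : (minpoly k y).degree = 1 :=
    Polynomial.degree_eq_one_of_irreducible_of_root (minpoly.irreducible hint) hroot
  obtain ⟨c, hc⟩ := minpoly.mem_range_of_degree_eq_one k y hdeg
  have hcℓ : c = ℓ := by
    have : ε (σ c) = ε y := congrArg ε hc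
    rw [hσ c] at this
    rw [this]
    exact hτ ℓ
  rw [hcℓ] at hc
  exact hc

end Groth.Agent.Lib.Helper24.GrpdDim
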