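import Mathlib
import Groth.Prelude.Def_Grpd
import Groth.Agent.Lib.Helper24.GrpdDim.Algebra
import Groth.Agent.Lib.lead.GrpdEquidim
import Groth.Agent.Lib.lead.FlatEquidimGen
import Groth.Agent.Lib.lead.FibreOrder

/-!
# The dimension of a groupoid on a field equals that of its stabilizer (helper24)
-/

set_option autoImplicit false
set_option linter.style.haveILetI false
universe u
open AlgebraicGeometry CategoryTheory CategoryTheory.Limits TopologicalSpace Topology

namespace Groth.Agent.Lib.Helper24.GrpdDim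

/-- evaluation of sections at the point of the spectrum of a field -/
theorem appLE_ne_zero_iff {F : Type u} [Field F] {R : Scheme.{u}}
    (φ : Spec (CommRingCat.of F) ⟶ R) (V : R.Opens) (hle : (⊤ : (Spec (CommRingCat.of F)).Opens) ≤ φ ⁻¹ᵁ V)
    (b : Γ(R, V)) (x : Spec (CommRingCat.of F)) :
    (Scheme.ΓSpecIso (CommRingCat.of F)).hom (φ.appLE V ⊤ hle b) ≠ 0 ↔ φ x ∈ R.basicOpen b := by
  have h1 : φ x ∈ R.basicOpen b ↔ x ∈ (Spec (CommRingCat.of F)).basicOpen (φ.appLE V ⊤ hle b) := by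
    rw [Scheme.basicOpen_appLE]
    constructor
    · intro h; exact ⟨trivial, h⟩
    · intro h; exact h.2
  rw [h1]
  have h2 : φ.appLE V ⊤ hle b = (Scheme.ΓSpecIso (CommRingCat.of F)).inv
      ((Scheme.ΓSpecIso (CommRingCat.of F)).hom (φ.appLE V ⊤ hle b)) := by
    simp
  rw [h2, basicOpen_eq_of_affine]
  simp only [Iso.hom_inv_id_apply]
  generalize (Scheme.ΓSpecIso (CommRingCat.of F)).hom (φ.appLE V ⊤ hle b) = f
  change f ≠ 0 ↔ (show PrimeSpectrum F from x) ∈ PrimeSpectrum.basicOpen (show F from f)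
  rw [PrimeSpectrum.mem_basicOpen]
  have hx : (show PrimeSpectrum F from x).asIdeal = ⊥ := Ideal.eq_bot_of_prime _
  rw [hx, Ideal.mem_bot]

theorem id_appLE_top {X : Scheme.{u}} (f : X ⟶ X) (h : f = 𝟙 X) (e : (⊤ : X.Opens) ≤ f ⁻¹ᵁ ⊤) :
    f.appLE ⊤ ⊤ e = 𝟙 _ := by
  subst h
  simp [Scheme.Hom.appLE]

/-- Two morphisms to the spectrum of a field with a common section agree at the residue field of
any generization of the image of the section. -/
theorem fromSpecResidueField_comp_eq {R : Scheme.{u}} {k : Type u} [Field k]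
    (s' t' : R ⟶ Spec (CommRingCat.of k)) (e' : Spec (CommRingCat.of k) ⟶ R)
    [LocallyOfFiniteType s'] (hs : e' ≫ s' = 𝟙 _) (ht : e' ≫ t' = 𝟙 _)
    (x₀ : Spec (CommRingCat.of k)) (ζ : R) (hζ : ζ ⤳ e' x₀) :
    R.fromSpecResidueField ζ ≫ s' = R.fromSpecResidueField ζ ≫ t' := by
  obtain ⟨V, hV, he₀V, -⟩ := exists_isAffineOpen_mem_and_subset (X := R) (x := e' x₀)
    (U := ⊤) trivial
  have hζV : ζ ∈ V := hζ.mem_open V.isOpen he₀V
  have hleS : V ≤ s' ⁻¹ᵁ ⊤ := le_top
  have hleT : V ≤ t' ⁻¹ᵁ ⊤ := le_top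
  have hleE : (⊤ : (Spec (CommRingCat.of k)).Opens) ≤ e' ⁻¹ᵁ V := by
    intro x _
    show e' x ∈ V
    have hx : x = x₀ := by
      apply PrimeSpectrum.ext
      rw [Ideal.eq_bot_of_prime x.asIdeal, Ideal.eq_bot_of_prime x₀.asIdeal]
    rw [hx]; exact he₀V
  have hleZ : (⊤ : (Spec (R.residueField ζ)).Opens) ≤ (R.fromSpecResidueField ζ) ⁻¹ᵁ V := by
    intro x _
    show R.fromSpecResidueField ζ x ∈ V
    rw [Scheme.fromSpecResidueField_apply]; exact hζV
  let σ₀ : k →+* Γ(R, V) := ((Scheme.ΓSpecIso (CommRingCat.of k)).inv ≫ s'.appLE ⊤ V hleS).hom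
  let τ₀ : k →+* Γ(R, V) := ((Scheme.ΓSpecIso (CommRingCat.of k)).inv ≫ t'.appLE ⊤ V hleT).hom
  let ε₀ : Γ(R, V) →+* k := (e'.appLE V ⊤ hleE ≫ (Scheme.ΓSpecIso (CommRingCat.of k)).hom).hom
  let ev : Γ(R, V) →+* R.residueField ζ :=
    ((R.fromSpecResidueField ζ).appLE V ⊤ hleZ ≫
      (Scheme.ΓSpecIso (R.residueField ζ)).hom).hom
  have hεσ : ∀ a, ε₀ (σ₀ a) = a := by
    intro a
    have h1 : s'.appLE ⊤ V hleS ≫ e'.appLE V ⊤ hleE = 𝟙 _ := by
      rw [Scheme.Hom.appLE_comp_appLE]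
      exact id_appLE_top _ hs _
    have h2 : (Scheme.ΓSpecIso (CommRingCat.of k)).inv ≫ s'.appLE ⊤ V hleS ≫
        e'.appLE V ⊤ hleE ≫ (Scheme.ΓSpecIso (CommRingCat.of k)).hom = 𝟙 _ := by
      rw [reassoc_of% h1]; simp
    exact congrArg (fun φ : CommRingCat.of k ⟶ CommRingCat.of k => φ.hom a) h2
  have hετ : ∀ a, ε₀ (τ₀ a) = a := by
    intro a
    have h1 : t'.appLE ⊤ V hleT ≫ e'.appLE V ⊤ hleE = 𝟙 _ := by
      rw [Scheme.Hom.appLE_comp_appLE]
      exact id_appLE_top _ ht _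
    have h2 : (Scheme.ΓSpecIso (CommRingCat.of k)).inv ≫ t'.appLE ⊤ V hleT ≫
        e'.appLE V ⊤ hleE ≫ (Scheme.ΓSpecIso (CommRingCat.of k)).hom = 𝟙 _ := by
      rw [reassoc_of% h1]; simp
    exact congrArg (fun φ : CommRingCat.of k ⟶ CommRingCat.of k => φ.hom a) h2
  -- the kernel of evaluation at `ζ`
  haveI hprime : (RingHom.ker ev).IsPrime := RingHom.ker_isPrime ev
  have hker : ∀ b ∈ RingHom.ker ev, ε₀ b = 0 := by
    intro b hb
    by_contra hne
    have h1 : e' x₀ ∈ R.basicOpen b := (appLE_ne_zero_iff e' V hleE b x₀).mp hne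
    have h2 : ζ ∈ R.basicOpen b := hζ.mem_open (R.basicOpen b).isOpen h1
    obtain ⟨z⟩ : Nonempty (Spec (R.residueField ζ)) := inferInstance
    have h3 : R.fromSpecResidueField ζ z ∈ R.basicOpen b := by
      rw [Scheme.fromSpecResidueField_apply]; exact h2
    exact (appLE_ne_zero_iff (R.fromSpecResidueField ζ) V hleZ b z).mpr h3 hb
  let σ : k →+* Γ(R, V) ⧸ RingHom.ker ev := (Ideal.Quotient.mk (RingHom.ker ev)).comp σ₀
  let τ : k →+* Γ(R, V) ⧸ RingHom.ker ev := (Ideal.Quotient.mk (RingHom.ker ev)).comp τ₀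
  let ε : Γ(R, V) ⧸ RingHom.ker ev →+* k := Ideal.Quotient.lift (RingHom.ker ev) ε₀ hker
  have hσft : σ.FiniteType := by
    have h1 : (s'.appLE ⊤ V hleS).hom.FiniteType :=
      s'.finiteType_appLE (isAffineOpen_top _) hV hleS
    have h2 : (Scheme.ΓSpecIso (CommRingCat.of k)).inv.hom.FiniteType :=
      RingHom.FiniteType.of_surjective _
        (ConcreteCategory.bijective_of_isIso (Scheme.ΓSpecIso (CommRingCat.of k)).inv).2
    have h3 : σ₀.FiniteType := h1.comp h2
    exact (RingHom.FiniteType.of_surjective _ Ideal.Quotient.mk_surjective).comp h3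
  have hστ : σ = τ := eq_of_retraction σ τ ε (fun a => hεσ a) (fun a => hετ a) hσft
  have hev : ∀ a, ev (σ₀ a) = ev (τ₀ a) := by
    intro a
    have h1 : σ a = τ a := by rw [hστ]
    have h2 : σ₀ a - τ₀ a ∈ RingHom.ker ev := Ideal.Quotient.eq.mp h1
    rw [RingHom.mem_ker, map_sub, sub_eq_zero] at h2
    exact h2
  -- conclude
  apply ext_of_isAffine
  have hS : (R.fromSpecResidueField ζ ≫ s').appTop =
      s'.appLE ⊤ V hleS ≫ (R.fromSpecResidueField ζ).appLE V ⊤ hleZ := by
    rw [Scheme.Hom.appLE_comp_appLE]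
    simp [Scheme.Hom.appLE]
  have hT : (R.fromSpecResidueField ζ ≫ t').appTop =
      t'.appLE ⊤ V hleT ≫ (R.fromSpecResidueField ζ).appLE V ⊤ hleZ := by
    rw [Scheme.Hom.appLE_comp_appLE]
    simp [Scheme.Hom.appLE]
  rw [hS, hT]
  rw [← cancel_epi (Scheme.ΓSpecIso (CommRingCat.of k)).inv,
    ← cancel_mono (Scheme.ΓSpecIso (R.residueField ζ)).hom]
  ext a
  exact hev a

theorem main1883 (S : Scheme.{u}) (G : Grpd.GroupoidScheme S) (k : Type u) [Field k]
    (eU : G.U ≅ Spec (CommRingCat.of k)) [LocallyOfFiniteType G.s] [LocallyOfFiniteType G.t] :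
    topologicalKrullDim G.R = topologicalKrullDim G.stabilizer := by
  haveI : IsAffine G.U := IsAffine.of_isIso eU.hom
  haveI : IsClosedImmersion G.diag := by
    show IsClosedImmersion (pullback.diagonal G.pU)
    infer_instance
  haveI : IsClosedImmersion (pullback.fst G.j G.diag) := inferInstance
  -- the stabilizer embeds in `R`
  have hemb : IsClosedEmbedding (pullback.fst G.j G.diag) :=
    (pullback.fst G.j G.diag).isClosedEmbedding
  have hdimG : topologicalKrullDim G.stabilizer =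
      topologicalKrullDim ↥(Set.range (pullback.fst G.j G.diag)) :=
    hemb.isEmbedding.toHomeomorph.isHomeomorph.topologicalKrullDim_eq
  apply le_antisymm
  · -- a maximal generization of the identity point
    let x₀ : Spec (CommRingCat.of k) := IsLocalRing.closedPoint k
    let e' : Spec (CommRingCat.of k) ⟶ G.R := eU.inv ≫ G.e
    obtain ⟨ζ, hζe, hζmax⟩ := Groth.Agent.Lib.lead.FibreOrder.exists_isMax_ge (e' x₀)
    have hζsp : ζ ⤳ e' x₀ := (Scheme.le_iff_specializes).1 hζe
    have hs : e' ≫ (G.s ≫ eU.hom) = 𝟙 _ := by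
      simp only [e', Category.assoc]
      rw [reassoc_of% G.e_s]; simp
    have ht : e' ≫ (G.t ≫ eU.hom) = 𝟙 _ := by
      simp only [e', Category.assoc]
      rw [reassoc_of% G.e_t]; simp
    have key := fromSpecResidueField_comp_eq (G.s ≫ eU.hom) (G.t ≫ eU.hom) e' hs ht x₀ ζ hζsp
    have key' : G.R.fromSpecResidueField ζ ≫ G.s = G.R.fromSpecResidueField ζ ≫ G.t := by
      rw [← cancel_mono eU.hom]
      simpa only [Category.assoc] using key
    -- the point `ζ` lifts to the stabilizer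
    have hcomm : G.R.fromSpecResidueField ζ ≫ G.j =
        (G.R.fromSpecResidueField ζ ≫ G.s) ≫ G.diag := by
      apply pullback.hom_ext
      · simp only [Grpd.GroupoidScheme.j, Grpd.GroupoidScheme.diag, Category.assoc,
          pullback.lift_fst, Category.comp_id]
        exact key'.symm
      · simp only [Grpd.GroupoidScheme.j, Grpd.GroupoidScheme.diag, Category.assoc,
          pullback.lift_snd, Category.comp_id]
    let ξ : Spec (G.R.residueField ζ) ⟶ pullback G.j G.diag :=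
      pullback.lift (G.R.fromSpecResidueField ζ) (G.R.fromSpecResidueField ζ ≫ G.s) hcomm
    have hξ : ξ ≫ pullback.fst G.j G.diag = G.R.fromSpecResidueField ζ := pullback.lift_fst _ _ _
    obtain ⟨z⟩ : Nonempty (Spec (G.R.residueField ζ)) := inferInstance
    have hζrange : ζ ∈ Set.range (pullback.fst G.j G.diag) := by
      refine ⟨ξ z, ?_⟩
      rw [← Scheme.Hom.comp_apply, hξ, Scheme.fromSpecResidueField_apply]
    have hsub : closure ({ζ} : Set G.R) ⊆ Set.range (pullback.fst G.j G.diag) :=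
      hemb.isClosed_range.closure_subset_iff.2 (Set.singleton_subset_iff.2 hζrange)
    have hcomp : closure ({ζ} : Set G.R) ∈ irreducibleComponents ↥G.R := by
      apply Groth.Agent.Lib.lead.FlatEquidimGen.closure_singleton_mem_irreducibleComponents
      intro z hz
      have h1 : ζ ≤ z := (Scheme.le_iff_specializes).2 hz
      have h2 : z ≤ ζ := hζmax h1
      have h3 : ζ ⤳ z := (Scheme.le_iff_specializes).1 h2
      exact (hz.antisymm h3).eq
    have hR := (Groth.Agent.Lib.lead.GrpdEquidim.S7518 S G k eU).1 _ hcomp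
    rw [← hR, hdimG]
    exact IsInducing.topologicalKrullDim_le (f := Set.inclusion hsub)
      (IsEmbedding.inclusion hsub).isInducing
  · rw [hdimG]
    exact topologicalKrullDim_subspace_le _ _

end Groth.Agent.Lib.Helper24.GrpdDim
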